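import Groth.Agent.CommAlgDim.Integral
import Mathlib.RingTheory.NoetherNormalization
import Mathlib.RingTheory.Valuation.LocalSubring
import Mathlib.RingTheory.IntegralClosure.IsIntegralClosure.Basic
import Mathlib.RingTheory.KrullDimension.Field
import Mathlib.RingTheory.KrullDimension.Polynomial

/-!
# Perturbing finite maps to affine space by high powers

If `u` defines a finite map from an affine algebra to affine space, then so does `x + c·u^M` for every tuple `x`, every
nonzero scalar `c` and every large `M`.
-/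

set_option autoImplicit false
set_option linter.style.haveILetI false

universe u

open MvPolynomial

noncomputable section

namespace PerturbFinLib

theorem valuation_aeval_le {F L : Type u} [Field F] [Field L] [Algebra F L] (O : ValuationSubring L)
    (hF : ∀ c : F, algebraMap F L c ∈ O) {d : ℕ} (w : Fin d → L) (a : O.ValueGroup) (ha : 1 ≤ a)
    (hw : ∀ i, O.valuation (w i) ≤ a) (P : MvPolynomial (Fin d) F) {C : ℕ} (hC : P.totalDegree ≤ C) :
    O.valuation (aeval w P) ≤ a ^ C := by
  classical
  rw [P.as_sum, map_sum]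
  refine Valuation.map_sum_le _ fun e he => ?_
  rw [aeval_monomial, map_mul, Finsupp.prod, map_prod]
  calc O.valuation (algebraMap F L (coeff e P)) * ∏ i ∈ e.support, O.valuation (w i ^ e i)
      ≤ 1 * ∏ i ∈ e.support, a ^ e i :=
        mul_le_mul' ((O.valuation_le_one_iff _).mpr (hF _))
          (Finset.prod_le_prod' fun i _ => by rw [map_pow]; exact pow_le_pow_left' (hw i) _)
    _ = a ^ (∑ i ∈ e.support, e i) := by rw [one_mul, Finset.prod_pow_eq_pow_sum]
    _ ≤ a ^ C := pow_le_pow_right' ha ((le_totalDegree he).trans hC)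

theorem valuation_le_of_monic {L : Type u} [Field L] (O : ValuationSubring L) (t : L) (P : Polynomial L)
    (hP : P.Monic) (ht : P.eval t = 0) (b : O.ValueGroup) (hb : 1 ≤ b)
    (hc : ∀ k, O.valuation (P.coeff k) ≤ b) : O.valuation t ≤ b := by
  by_contra hlt
  rw [not_le] at hlt
  have h1 : 1 < O.valuation t := hb.trans_lt hlt
  have ht0 : O.valuation (t ^ P.natDegree) ≠ 0 := by
    rw [map_pow]; exact pow_ne_zero _ (ne_of_gt (zero_lt_one.trans h1))
  have hsum : O.valuation (∑ k ∈ Finset.range P.natDegree, P.coeff k * t ^ k) < O.valuation (t ^ P.natDegree) := by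
    refine Valuation.map_sum_lt _ ht0 fun k hk => ?_
    rw [map_mul, map_pow, map_pow]
    refine lt_of_lt_of_le (mul_lt_mul_of_pos_right ((hc k).trans_lt hlt)
      (pow_pos (zero_lt_one.trans h1) k)) ?_
    rw [← pow_succ']
    exact pow_le_pow_right' h1.le (Finset.mem_range.mp hk)
  have h := Valuation.map_add_eq_of_lt_left _ hsum
  rw [Polynomial.eval_eq_sum_range, Finset.sum_range_succ, hP.coeff_natDegree, one_mul, add_comm] at ht
  rw [ht, map_zero] at h
  exact ht0 h.symm

theorem isIntegral_of_forall_prime {B S : Type u} [CommRing B] [CommRing S] [Algebra B S] (s : S)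
    (h : ∀ (P : Ideal S) [P.IsPrime], IsIntegral B (algebraMap S P.ResidueField s)) : IsIntegral B s := by
  classical
  by_contra hs
  let T : Submonoid S :=
    { carrier := {z | ∃ q : Polynomial B, q.Monic ∧ Polynomial.aeval s q = z}
      one_mem' := ⟨1, Polynomial.monic_one, map_one _⟩
      mul_mem' := by
        rintro _ _ ⟨q, hq, rfl⟩ ⟨r, hr, rfl⟩
        exact ⟨q * r, hq.mul hr, map_mul _ _ _⟩ }
  have hdisj : Disjoint ((⊥ : Ideal S) : Set S) (T : Set S) := by
    rw [Set.disjoint_left]
    rintro z hz ⟨q, hq, hqz⟩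
    exact hs ⟨q, hq, by rw [← Polynomial.aeval_def, hqz]; exact hz⟩
  obtain ⟨P, hP, -, hPT⟩ := Ideal.exists_le_prime_disjoint _ _ hdisj
  obtain ⟨q, hq, hq0⟩ := h P
  rw [← Polynomial.aeval_def, Polynomial.aeval_algebraMap_apply, Ideal.algebraMap_residueField_eq_zero] at hq0
  exact Set.disjoint_left.mp hPT hq0 ⟨q, hq, rfl⟩

/-- **Perturbation by high powers.** -/
theorem exists_finite_add_pow {F S : Type u} [Field F] [CommRing S] [Algebra F S] [Algebra.FiniteType F S] {d : ℕ}
    (x u : Fin d → S) (hu : (aeval u : MvPolynomial (Fin d) F →ₐ[F] S).toRingHom.Finite) :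
    ∃ M₀, ∀ M, M₀ ≤ M → ∀ c : F, c ≠ 0 →
      (aeval (fun i => x i + c • u i ^ M) : MvPolynomial (Fin d) F →ₐ[F] S).toRingHom.Finite := by
  classical
  choose P hPm hP0 using fun i => hu.to_isIntegral (x i)
  let C := Finset.univ.sup fun i => (Finset.range ((P i).natDegree + 1)).sup fun k => ((P i).coeff k).totalDegree
  have hC : ∀ i k, ((P i).coeff k).totalDegree ≤ C := fun i k => by
    by_cases hk : k ∈ Finset.range ((P i).natDegree + 1)
    · exact le_trans (Finset.le_sup (f := fun k => ((P i).coeff k).totalDegree) hk)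
        (Finset.le_sup (f := fun i => (Finset.range ((P i).natDegree + 1)).sup
          fun k => ((P i).coeff k).totalDegree) (Finset.mem_univ i))
    · rw [(P i).coeff_eq_zero_of_natDegree_lt (by rw [Finset.mem_range] at hk; omega), totalDegree_zero]
      exact Nat.zero_le _
  refine ⟨C + 1, fun M hM c hc => ?_⟩
  let f : Fin d → S := fun i => x i + c • u i ^ M
  let φ : MvPolynomial (Fin d) F →ₐ[F] S := aeval u
  let ψ : MvPolynomial (Fin d) F →ₐ[F] S := aeval f
  refine RingHom.IsIntegral.to_finite ?_ (RingHom.FiniteType.of_comp_finiteType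
    (f := algebraMap F (MvPolynomial (Fin d) F)) (g := ψ.toRingHom)
    (by rw [show ψ.toRingHom.comp (algebraMap F (MvPolynomial (Fin d) F)) = algebraMap F S from ψ.comp_algebraMap]
        exact RingHom.finiteType_algebraMap.mpr inferInstance))
  letI algB : Algebra (MvPolynomial (Fin d) F) S := ψ.toRingHom.toAlgebra
  have key : ∀ j, IsIntegral (MvPolynomial (Fin d) F) (u j) := fun j => by
    refine isIntegral_of_forall_prime _ fun Q _ => ?_
    let L := Q.ResidueField
    let π : S →ₐ[F] L := IsScalarTower.toAlgHom F S L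
    have hmem : algebraMap S L (u j) ∈ (integralClosure (Subring.closure
        (Set.range (algebraMap (MvPolynomial (Fin d) F) L))) L).toSubring := by
      rw [← iInf_valuationSubring_superset, Subring.mem_iInf]
      rintro ⟨O, hO⟩
      have hF : ∀ a : F, algebraMap F L a ∈ O := fun a => hO ⟨MvPolynomial.C a, by
        show algebraMap S L (ψ (MvPolynomial.C a)) = _
        rw [← MvPolynomial.algebraMap_eq, AlgHom.commutes, ← IsScalarTower.algebraMap_apply]⟩
      by_contra hj
      obtain ⟨i, -, hi⟩ := Finset.exists_max_image Finset.univ (fun i => O.valuation (π (u i)))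
        ⟨j, Finset.mem_univ j⟩
      set a := O.valuation (π (u i))
      have ha : 1 < a := lt_of_lt_of_le (not_le.mp fun h => hj ((O.valuation_le_one_iff _).mp h))
        (hi j (Finset.mem_univ j))
      have hx : O.valuation (π (x i)) ≤ a ^ C := by
        refine valuation_le_of_monic O _ ((P i).map (π.toRingHom.comp φ.toRingHom)) ((hPm i).map _) ?_ _
          (one_le_pow_of_one_le' ha.le _) fun k => ?_
        · rw [Polynomial.eval_map, ← show π.toRingHom (x i) = π (x i) from rfl, ← Polynomial.hom_eval₂]
          exact (congrArg π (hP0 i)).trans (map_zero π)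
        · rw [Polynomial.coeff_map]
          show O.valuation (π (aeval u ((P i).coeff k))) ≤ _
          rw [← AlgHom.comp_apply, comp_aeval]
          exact valuation_aeval_le O hF _ a ha.le (fun l => hi l (Finset.mem_univ l)) _ (hC i k)
      have hf : O.valuation (π (f i)) ≤ 1 := (O.valuation_le_one_iff _).mpr (hO ⟨MvPolynomial.X i, by
        show algebraMap S L (ψ (MvPolynomial.X i)) = _
        rw [show ψ (MvPolynomial.X i) = f i from aeval_X f i]
        rfl⟩)
      have hfC : O.valuation (π (f i)) ≤ a ^ C := hf.trans (one_le_pow_of_one_le' ha.le _)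
      have hd : π (c • u i ^ M) = π (f i) - π (x i) := by rw [← map_sub]; simp [f]
      have h1 : O.valuation (π (c • u i ^ M)) = a ^ M := by
        have hcu : O.valuation (algebraMap F L c) = 1 := by
          refine le_antisymm ((O.valuation_le_one_iff _).mpr (hF c)) ?_
          have h2 : O.valuation (algebraMap F L c) * O.valuation (algebraMap F L c⁻¹) = 1 := by
            rw [← map_mul, ← map_mul, mul_inv_cancel₀ hc, map_one, map_one]
          rw [← h2]
          exact mul_le_of_le_one_right' ((O.valuation_le_one_iff _).mpr (hF _))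
        rw [map_smul, Algebra.smul_def, map_mul, hcu, one_mul, map_pow, map_pow]
      exact (pow_lt_pow_right₀ ha hM).not_ge (h1 ▸ hd ▸ Valuation.map_sub_le _ hfC hx)
    let R₀ := Subring.closure (Set.range (algebraMap (MvPolynomial (Fin d) F) L))
    obtain ⟨q, hq, hq0⟩ := (hmem : IsIntegral R₀ (algebraMap S L (u j)))
    let g : MvPolynomial (Fin d) F →+* R₀ :=
      (algebraMap (MvPolynomial (Fin d) F) L).codRestrict R₀ fun a => Subring.subset_closure ⟨a, rfl⟩
    have hg : Function.Surjective g := by
      rintro ⟨z, hz⟩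
      have hz' : z ∈ (algebraMap (MvPolynomial (Fin d) F) L).range := by
        rwa [show R₀ = (algebraMap (MvPolynomial (Fin d) F) L).range from
          (congrArg Subring.closure (RingHom.coe_range _).symm).trans (Subring.closure_eq _)] at hz
      obtain ⟨a, rfl⟩ := hz'
      exact ⟨a, rfl⟩
    obtain ⟨q', hq', -, hq'm⟩ := Polynomial.lifts_and_degree_eq_and_monic
      (Polynomial.map_surjective g hg q) hq
    refine ⟨q', hq'm, ?_⟩
    rw [← hq', Polynomial.eval₂_map] at hq0
    exact hq0
  let T := integralClosure (MvPolynomial (Fin d) F) S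
  have hφT : ∀ p, φ p ∈ T := fun p => by
    induction p using MvPolynomial.induction_on with
    | C a => rw [← MvPolynomial.algebraMap_eq, AlgHom.commutes, ← ψ.commutes a]; exact T.algebraMap_mem _
    | add p q hp hq => rw [map_add]; exact add_mem hp hq
    | mul_X p i hp => rw [map_mul, show φ (MvPolynomial.X i) = u i from aeval_X u i]; exact mul_mem hp (key i)
  intro s
  show IsIntegral (MvPolynomial (Fin d) F) s
  obtain ⟨q, hq, hq0⟩ := hu.to_isIntegral s
  refine isIntegral_trans (A := T) s ⟨q.map (φ.toRingHom.codRestrict T.toSubring hφT), hq.map _, ?_⟩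
  rw [Polynomial.eval₂_map]
  exact hq0

/-- Noether normalization with a prescribed number of variables. -/
theorem exists_finite_aeval (F S : Type u) [Field F] [CommRing S] [Algebra F S] [Algebra.FiniteType F S] (d : ℕ)
    (h : ringKrullDim S ≤ d) :
    ∃ u : Fin d → S, (aeval u : MvPolynomial (Fin d) F →ₐ[F] S).toRingHom.Finite := by
  cases subsingleton_or_nontrivial S
  · refine ⟨0, RingHom.Finite.of_surjective _ fun s => ⟨0, Subsingleton.elim _ _⟩⟩
  obtain ⟨s, g, hg, hgfin⟩ := exists_finite_inj_algHom_of_fg F S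
  have hsd : s ≤ d := by
    letI := g.toRingHom.toAlgebra
    haveI : Module.Finite (MvPolynomial (Fin s) F) S := hgfin
    have h1 := CommAlgDim.ringKrullDim_eq_of_integral (MvPolynomial (Fin s) F) S hg
    rw [MvPolynomial.ringKrullDim_of_isNoetherianRing, ringKrullDim_eq_zero_of_field, zero_add,
      Nat.card_eq_fintype_card, Fintype.card_fin] at h1
    rw [h1] at h
    exact_mod_cast h
  refine ⟨fun i => if hi : (i : ℕ) < s then g (X ⟨i, hi⟩) else 0, ?_⟩
  refine RingHom.Finite.of_comp_finite (f := (rename (Fin.castLE hsd) :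
    MvPolynomial (Fin s) F →ₐ[F] MvPolynomial (Fin d) F).toRingHom) ?_
  show ((aeval fun i : Fin d => if hi : (i : ℕ) < s then g (X ⟨i, hi⟩) else 0).comp
    (rename (Fin.castLE hsd) : MvPolynomial (Fin s) F →ₐ[F] MvPolynomial (Fin d) F)).toRingHom.Finite
  have he : (aeval fun i : Fin d => if hi : (i : ℕ) < s then g (X ⟨i, hi⟩) else 0).comp (rename (Fin.castLE hsd)) = g :=
    MvPolynomial.algHom_ext fun i => by simp
  rw [he]
  exact hgfin

/-- Scaling the coordinates by nonzero scalars preserves finiteness. -/
theorem finite_smul {F S : Type u} [Field F] [CommRing S] [Algebra F S] {d : ℕ} (u : Fin d → S) (c : Fin d → F)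
    (hc : ∀ i, c i ≠ 0) (hu : (aeval u : MvPolynomial (Fin d) F →ₐ[F] S).toRingHom.Finite) :
    (aeval (fun i => c i • u i) : MvPolynomial (Fin d) F →ₐ[F] S).toRingHom.Finite := by
  refine RingHom.Finite.of_comp_finite (f := (aeval fun i => (c i)⁻¹ • X i :
    MvPolynomial (Fin d) F →ₐ[F] MvPolynomial (Fin d) F).toRingHom) ?_
  show ((aeval fun i => c i • u i).comp
    (aeval fun i => (c i)⁻¹ • (X i : MvPolynomial (Fin d) F))).toRingHom.Finite
  have he : (aeval fun i => c i • u i).comp (aeval fun i => (c i)⁻¹ • (X i : MvPolynomial (Fin d) F)) = aeval u :=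
    MvPolynomial.algHom_ext fun i => by simp [smul_smul, inv_mul_cancel₀ (hc i)]
  rw [he]
  exact hu

end PerturbFinLib
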